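import Mathlib
import Cfsg.Agent.Class.U.Frame3
import Cfsg.Agent.Class.BinaryGen

/-!
# Binary actions of `SU₃(q)`, `q` even
-/

set_option autoImplicit false

namespace Cfsg.Agent.Class.U

open Matrix Cfsg MulAction Cfsg.Agent.Chev

variable {F : Type*} [Field F] {q : ℕ} [hU : UF F q]

local notation "σ" => conj F q
local notation "𝐡" => hermForm 3 F q

variable {Ω : Type*} [MulAction (SU 3 F q) Ω] {ω : Ω}

omit hU in
theorem fix_of_conj {k g : SU 3 F q} (h : (k⁻¹ * g * k) • ω = ω) : g • k • ω = k • ω := by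
  rwa [mul_smul, mul_smul, inv_smul_eq_iff] at h

omit hU in
theorem line_of_fix {e : Fin 3 → F} (hB : ∀ g : SU 3 F q, g • ω = ω → ∃ l : F, g • e = l • e)
    {k k' g : SU 3 F q} (h : g • k • ω = k' • ω) : ∃ l : F, g • k • e = l • k' • e := by
  obtain ⟨l, hl⟩ := hB (k'⁻¹ * g * k) (by rw [mul_smul, mul_smul, h, inv_smul_smul])
  rw [mul_smul, mul_smul, inv_smul_eq_iff, SU_smul_comm] at hl
  exact ⟨l, hl⟩

namespace Fr

variable {e n f : Fin 3 → F} (h : Fr q e n f) (h2 : (2 : F) = 0)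
include h h2

theorem exists_W {m : F} (hm0 : m ≠ 0) (hm : σ m = m) : ∃ W : SU 3 F q,
    IsSiegel (e + m • f) 0 m⁻¹ W ∧ 𝐡 (e + m • f) (e + m • f) = 0 ∧ e + m • f ≠ 0 ∧
      W • e = m • f ∧ W • n = n ∧ W • f = m⁻¹ • e := by
  have h1 : 𝐡 (e + m • f) (e + m • f) = 0 := by
    simp only [herm_add_left, herm_add_right, herm_smul_left, herm_smul_right, h.ee, h.ef, h.fe,
      h.ff, hm]
    linear_combination m * h2
  obtain ⟨W, hW⟩ := exists_transvection h1 (a := m⁻¹) (by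
    rw [map_inv₀, hm]; linear_combination m⁻¹ * h2)
  refine ⟨W, hW, h1, fun e0 => ?_, ?_, ?_, ?_⟩
  · simpa [herm_add_left, herm_smul_left, h.ef, h.ff, herm_zero_left] using
      congrArg (fun x => 𝐡 x f) e0
  all_goals
    simp only [hW.smul_zero_vec, herm_add_right, herm_smul_right, h.ee, h.ef, h.fe, h.ff, h.ne,
      h.nf, hm]
    match_scalars <;> field_simp <;> grind

variable (hB : ∀ g : SU 3 F q, g • ω = ω → ∃ l : F, g • e = l • e)
  (hT : ∀ a (t : SU 3 F q), IsSiegel e 0 a t → t • ω = ω)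
include hB hT

omit h2 hB in
theorem exists_fix_transv {p : Fin 3 → F} (hp : 𝐡 p p = 0) (p0 : p ≠ 0) {a : F} {t : SU 3 F q}
    (ht : IsSiegel p 0 a t) : ∃ k : SU 3 F q, k • e = p ∧ t • k • ω = k • ω := by
  obtain ⟨k, rfl⟩ := exists_SU_smul_eq le_rfl h.e_ne p0 h.ee hp
  refine ⟨k, rfl, fix_of_conj (hT a _ ?_)⟩
  simpa using ht.conj k⁻¹

theorem not_isBin_of_split {d : SU 3 F q} {l : F} (hl : σ l = l) (hl1 : l ≠ 1) (hd : d • ω = ω)
    (he : d • e = l • e) (hf : d • f = (σ l)⁻¹ • f) : ¬ IsBin (SU 3 F q) Ω := by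
  intro hb
  have l0 := eigen_ne_zero h.e_ne he
  have hn := (h.n_of_diag he hf).2
  rw [hl, div_self l0, one_smul] at hn
  rw [hl] at hf
  obtain ⟨W₀, a0, b0, c0, e0, n0, f0⟩ := h.exists_W h2 one_ne_zero (map_one _)
  obtain ⟨W₁, a1, b1, c1, e1, n1, f1⟩ := h.exists_W h2 l0 hl
  obtain ⟨W₂, a2, b2, c2, e2, n2, f2⟩ := h.exists_W h2 (mul_ne_zero l0 l0) (by rw [map_mul, hl])
  have r1 : W₁ = W₀ * d := h.ext (by simp [mul_smul, he, SU_smul_comm, e0, e1])
    (by rw [mul_smul, hn, n0, n1]) (by simp [mul_smul, hf, SU_smul_comm, f0, f1])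
  have r2 : W₂ = W₁ * d := h.ext (by simp [mul_smul, he, SU_smul_comm, e2, e1])
    (by rw [mul_smul, hn, n2, n1]) (by simp [mul_smul, hf, SU_smul_comm, f2, f1])
  obtain ⟨k₀, p0, q0⟩ := h.exists_fix_transv hT b0 c0 a0
  obtain ⟨k₁, p1, q1⟩ := h.exists_fix_transv hT b1 c1 a1
  obtain ⟨k₂, p2, q2⟩ := h.exists_fix_transv hT b2 c2 a2
  obtain ⟨g, g0, g1, g2, g3⟩ := hb.star3 q0 q1 q2 (z := ω) (by rw [r1, mul_smul, hd])
    (by rw [r2, r1, mul_smul, mul_smul, hd, hd])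
  obtain ⟨m0, g0⟩ := line_of_fix hB g0
  obtain ⟨m1, g1⟩ := line_of_fix hB g1
  obtain ⟨m2, g2⟩ := line_of_fix hB g2
  obtain ⟨m, g3⟩ := line_of_fix hB (g := g) (k := 1) (k' := W₀) (by rwa [one_smul])
  rw [one_smul, e0, one_smul] at g3
  rw [p0, one_smul, smul_add, g3, ← eq_sub_iff_add_eq'] at g0
  rw [p1, smul_add, SU_smul_comm, g3, g0] at g1
  rw [p2, smul_add, SU_smul_comm, g3, g0] at g2
  obtain ⟨s1, -, t1⟩ := h.comb_inj (a := l * m0) (b := 0) (c := m + l * (m0 - m)) (a' := m1)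
    (b' := 0) (c' := m1 * l) (by linear_combination (norm := module) g1)
  obtain ⟨s2, -, t2⟩ := h.comb_inj (a := l * l * m0) (b := 0) (c := m + l * l * (m0 - m)) (a' := m2)
    (b' := 0) (c' := m2 * (l * l)) (by linear_combination (norm := module) g2)
  have hm : m ≠ 0 := by
    rintro rfl
    rw [zero_smul, smul_eq_zero_iff_eq] at g3
    exact h.e_ne g3
  have l1 := sub_ne_zero.2 hl1
  have u1 : m = -(l * m0) := mul_left_cancel₀ l1 (by linear_combination -t1 + l * s1)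
  have u2 : m = -(l * l * m0) := mul_left_cancel₀ (pow_ne_zero 2 l1) (by
    linear_combination -t2 + l * l * s2 + (m - l * m + l ^ 2 * m0 - l ^ 3 * m0) * h2)
  exact mul_ne_zero hm l1 (by linear_combination l * u1 - u2)

theorem not_isBin_of_homology {d : SU 3 F q} {l : F} (hl : l * σ l = 1) (hl1 : σ l ≠ l ^ 2)
    (hd : d • ω = ω) (he : d • e = l • e) (hf : d • f = (σ l)⁻¹ • f) : ¬ IsBin (SU 3 F q) Ω := by
  intro hb
  have l0 := eigen_ne_zero h.e_ne he
  have hn := (h.n_of_diag he hf).2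
  rw [show σ l / l = σ l ^ 2 by field_simp; linear_combination -σ l * hl] at hn
  rw [show (σ l)⁻¹ = l from inv_eq_of_mul_eq_one_left hl] at hf
  obtain ⟨t, ht⟩ : ∃ t, t = σ l ^ 3 := ⟨_, rfl⟩
  have ht' : σ t = l ^ 3 := by rw [ht, map_pow, conj_conj]
  have htt : t * σ t = 1 := by rw [ht', ht, ← mul_pow, mul_comm, hl, one_pow]
  have ht1 : σ t ≠ 1 := fun e => hl1 (by rw [ht'] at e; linear_combination l ^ 2 * hl - σ l * e)
  obtain ⟨b, hb'⟩ : ∃ b, b = t + σ t := ⟨_, rfl⟩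
  have bc : σ b = b := by rw [hb', map_add, conj_conj, add_comm]
  have b0 : b ≠ 0 := fun e => ht1 (by
    have : (σ t - 1) ^ 2 = 0 := by
      rw [hb'] at e
      linear_combination σ t * e - htt - σ t * h2
    exact sub_eq_zero.1 (pow_eq_zero_iff two_ne_zero |>.1 this))
  obtain ⟨W, a0, b1, c0, e0, n0, f0⟩ := h.exists_W h2 one_ne_zero (map_one _)
  obtain ⟨u, hu⟩ := h.exists_unip (c := 0) (a := b) (by rw [bc]; linear_combination b * h2)
  obtain ⟨s, hs⟩ := exists_norm_eq (q := q) bc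
  obtain ⟨c, hc⟩ := exists_trace_eq_one F q
  have key : ∀ x y : F, (W * u * d) • ((x * σ t) • e + y • n + x • f) =
      σ l ^ 2 • ((x * σ t) • e + y • n + x • f) := by
    intro x y
    simp only [mul_smul, smul_add, SU_smul_comm, he, hn, hf, h.unip_e hu, h.unip_n hu, h.unip_f hu,
      e0, n0, f0, map_zero, zero_smul, smul_zero, sub_zero, inv_one, one_smul]
    match_scalars
    · linear_combination x * l * hb' + x * l * ht + x * σ l ^ 2 * hl + x * σ t * l * h2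
    · ring
    · linear_combination (-x * l * (l * σ l + 1)) * hl - x * σ l ^ 2 * ht'
  obtain ⟨k, k1, k2⟩ := exists_SU_pair le_rfl h.ee h.ff (u' := (1 * σ t) • e + s • n + (1 : F) • f)
    (v' := (c / b * σ t) • e + (σ c / b * s) • n + (c / b) • f)
    (by
      rw [h.herm_comb, hs, map_mul, conj_conj, map_one]
      linear_combination b * h2 - hb')
    (by
      simp only [h.herm_comb, map_mul, map_div₀, conj_conj, bc]
      field_simp
      linear_combination c * σ c * (hs - hb' + b * h2))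
    (by
      simp only [h.ef, h.herm_comb, map_mul, map_div₀, conj_conj, bc]
      field_simp
      linear_combination -c * hs - b * hc + σ c * hb')
    (by rw [h.ef]; exact one_ne_zero)
  have k3 : k⁻¹ * (W * u * d) * k * (d * d) = 1 := by
    refine h.eq_one ?_ ?_
    · rw [mul_smul, mul_smul d, he, SU_smul_comm, he, smul_smul, SU_smul_comm, mul_smul _ k,
        mul_smul k⁻¹, k1, key, ← k1, SU_smul_comm, inv_smul_smul, smul_smul,
        show l * l * σ l ^ 2 = 1 by linear_combination (l * σ l + 1) * hl, one_smul]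
    · rw [mul_smul, mul_smul d, hf, SU_smul_comm, hf, smul_smul, SU_smul_comm, mul_smul _ k,
        mul_smul k⁻¹, k2, key, ← k2, SU_smul_comm, inv_smul_smul, smul_smul,
        show l * l * σ l ^ 2 = 1 by linear_combination (l * σ l + 1) * hl, one_smul]
  have k4 : (W * u * d) • k • ω = k • ω := fix_of_conj (by
    rw [eq_inv_of_mul_eq_one_left k3, inv_smul_eq_iff, mul_smul, hd, hd])
  obtain ⟨k₀, p0, q0⟩ := h.exists_fix_transv hT b1 c0 a0
  obtain ⟨g, g0, g1, g3⟩ := hb.star2 q0 k4 (z := ω) (by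
    rw [mul_smul, mul_smul, hd, hT b u (by simpa using hu)])
  obtain ⟨m0, g0⟩ := line_of_fix hB g0
  obtain ⟨m1, g1⟩ := line_of_fix hB g1
  obtain ⟨m, g3⟩ := line_of_fix hB (g := g) (k := 1) (k' := W) (by rwa [one_smul])
  rw [one_smul, e0, one_smul] at g3
  rw [p0, one_smul, smul_add, g3, ← eq_sub_iff_add_eq'] at g0
  obtain ⟨r, r1, r2⟩ := h.exists_n (g := g) (by rw [g3, herm_smul_left, h.fn, mul_zero])
    (by simp [g0, herm_sub_left, herm_add_left, herm_smul_left, h.en, h.fn])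
  have g4 := (h.smul g).ef
  rw [k1] at g1
  simp only [smul_add, SU_smul_comm, g3, g0, r2] at g1
  obtain ⟨s1, s2, s3⟩ := h.comb_inj (a := m0) (b := s * r) (c := σ t * m + m0 - m)
    (a' := m1 * σ t) (b' := m1 * s) (c' := m1) (by linear_combination (norm := module) g1)
  have s0 : s ≠ 0 := by rintro rfl; exact b0 (by simpa using hs.symm)
  obtain rfl : r = m1 := mul_left_cancel₀ s0 (by linear_combination s2)
  simp only [g3, g0, herm_smul_left, herm_smul_right, herm_sub_right, herm_add_right, h.fe,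
    h.ff] at g4
  rw [s1, map_mul, conj_conj] at g4
  apply ht1
  have s4 : m = r * σ t := by linear_combination r * σ t * g4 - m * σ t * t * r1 - m * htt
  have r0 : r ≠ 0 := left_ne_zero_of_mul_eq_one r1
  have s5 : (σ t - 1) ^ 2 = 0 := mul_left_cancel₀ r0 (by
    linear_combination s3 - s1 + (1 - σ t) * s4 + r * (1 - σ t) * h2)
  exact sub_eq_zero.1 (pow_eq_zero_iff two_ne_zero |>.1 s5)

omit hB hT in
theorem pow_three_eq_one {l c a : F} (l0 : l ≠ 0) (ha : a * l = σ l ^ 2)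
    {u d W : SU 3 F q} (hu : IsSiegel e (c • n) a u) (he : d • e = l • e)
    (hf : d • f = (σ l)⁻¹ • f) (e0 : W • e = f) (n0 : W • n = n) (f0 : W • f = e) :
    (u * d * W) ^ 3 = 1 := by
  have hn := (h.n_of_diag he hf).2
  have hc := hu.cond h.e_ne h.ee (by rw [herm_smul_left, h.ne, mul_zero])
  rw [herm_smul_left, herm_smul_right, h.nn, mul_one] at hc
  have ha' := congrArg σ ha
  rw [map_mul, map_pow, conj_conj] at ha'
  have l0' := (conj_ne_zero (q := q)).2 l0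
  have r1 : (u * d * W) • f = l • e := by
    simp only [mul_smul, f0, he, SU_smul_comm, h.unip_e hu]
  have r2 : (u * d * W) • e = (σ l)⁻¹ • (a • e + c • n + f) := by
    simp only [mul_smul, e0, hf, SU_smul_comm, h.unip_f hu]
  have r3 : (u * d * W) • n = (σ l / l) • (n - σ c • e) := by
    simp only [mul_smul, n0, hn, SU_smul_comm, h.unip_n hu]
  generalize u * d * W = r at r1 r2 r3
  have r4 : r ^ 3 • f = f := by
    simp only [pow_three', mul_smul, r1, r2, r3, smul_add, SU_smul_comm]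
    match_scalars <;> field_simp <;> grind
  have r5 : r ^ 3 • r • f = r • f := by rw [← mul_smul, pow_mul_comm', mul_smul, r4]
  rw [r1, SU_smul_comm] at r5
  exact h.eq_one (smul_right_injective _ l0 r5) r4

theorem not_isBin_of_four (hq : 2 < q)
    (hZ : ∀ z ∈ Subgroup.center (SU 3 F q), ∀ x : Ω, z • x = x)
    (hS : ∀ (g : SU 3 F q) (l : F), g • ω = ω → g • e = l • e → σ l = l ^ 2) {c a : F}
    (c0 : c ≠ 0) {u : SU 3 F q} (hu : IsSiegel e (c • n) a u) (huω : u • ω = ω) :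
    ¬ IsBin (SU 3 F q) Ω := by
  intro hb
  have := hU.finite
  obtain ⟨x, x0, hx⟩ := exists_pow_ne_one (F := F) (d := 3 * (q - 1)) (by omega) (by
    rw [card_units F q]; exact Nat.mul_lt_mul_of_pos_right (by omega) (by omega))
  have x0' := (conj_ne_zero (q := q)).2 x0
  obtain ⟨T, hT'⟩ : ∃ T, T = σ x ^ 2 / x + x ^ 2 / σ x := ⟨_, rfl⟩
  have Tc : σ T = T := by simp [hT', conj_conj, add_comm]
  have T0 : T ≠ 0 := fun e => hx (by
    rw [pow_mul, ← conj_eq_self_iff (pow_ne_zero 3 x0), map_pow]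
    rw [hT'] at e
    field_simp at e
    linear_combination e - x ^ 3 * h2)
  obtain ⟨y, hy⟩ : ∃ y, y = σ x ^ 2 / x / T := ⟨_, rfl⟩
  have y0 : y ≠ 0 := by rw [hy]; positivity
  have y1 : y + σ y = 1 := by
    rw [hy, map_div₀, map_div₀, map_pow, conj_conj, Tc, ← add_div, ← hT', div_self T0]
  obtain ⟨r, hr⟩ : ∃ r, r = c * σ c * (y * σ y) / T := ⟨_, rfl⟩
  have rc : σ r = r := by simp [hr, conj_conj, Tc, mul_comm]
  have r0 : r ≠ 0 := by
    have := (conj_ne_zero (q := q)).2 y0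
    have := (conj_ne_zero (q := q)).2 c0
    rw [hr]; positivity
  have a1 : r * (σ x ^ 2 / x) + σ (r * (σ x ^ 2 / x)) = c * σ c * (y * σ y) := by
    rw [map_mul, map_div₀, map_pow, conj_conj, rc, ← mul_add, ← hT', hr, div_mul_cancel₀ _ T0]
  have a2 : r * (σ x ^ 2 / x) * (r * x) = σ (r * x) ^ 2 := by
    rw [map_mul, rc]; field_simp
  generalize r * (σ x ^ 2 / x) = b at a1 a2
  have l0 := mul_ne_zero r0 x0
  generalize r * x = l at a2 l0
  obtain ⟨W, -, -, -, e0, n0, f0⟩ := h.exists_W h2 one_ne_zero (map_one _)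
  rw [one_smul] at e0
  rw [inv_one, one_smul] at f0
  obtain ⟨d, he, hf⟩ := h.exists_diag l0
  obtain ⟨u₁, hu₁⟩ := h.exists_unip (c := c * y) (a := b) (by
    rw [a1, map_mul]; linear_combination c * σ c * y * σ y * h2)
  obtain ⟨u₂, hu₂⟩ := h.exists_unip (c := c * σ y) (a := b) (by
    rw [a1, map_mul, conj_conj]; linear_combination c * σ c * y * σ y * h2)
  have p1 := h.pow_three_eq_one h2 l0 a2 hu₁ he hf e0 n0 f0
  have p2 := h.pow_three_eq_one h2 l0 a2 hu₂ he hf e0 n0 f0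
  have ne : ∀ s : F, 𝐡 (s • n) e = 0 := fun s => by rw [herm_smul_left, h.ne, mul_zero]
  have x1 := hu₂.mul (hu₁.inv h.ee (ne _)) h.ee (ne _) (by rw [herm_neg_left, ne, neg_zero])
  rw [← neg_smul, ← add_smul, show c * σ y + -(c * y) = c by
    linear_combination c * y1 - c * y * h2] at x1
  have x2 := (hu.inv h.ee (ne _)).mul x1 h.ee (by rw [herm_neg_left, ne, neg_zero]) (ne _)
  rw [neg_add_cancel] at x2
  have x3 : (u₂ * u₁⁻¹) • ω = ω := by
    have := hT _ _ x2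
    rwa [mul_smul, inv_smul_eq_iff, huω] at this
  have r1 : (u₁ * d * W) • f = l • e := by
    simp only [mul_smul, f0, he, SU_smul_comm, h.unip_e hu₁]
  have r2 : 𝐡 ((u₁ * d * W) • e) e ≠ 0 := by
    simp [mul_smul, e0, hf, SU_smul_comm, h.unip_f hu₁, herm_add_left, herm_smul_left, h.ee, h.ne,
      h.fe, l0]
  rw [show u₂ * d * W = u₂ * u₁⁻¹ * (u₁ * d * W) by group] at p2
  generalize u₂ * u₁⁻¹ = x at x1 x3 p2
  generalize u₁ * d * W = ρ at r1 r2 p1 p2
  have p3 : x * (ρ * x * ρ⁻¹) = ρ⁻¹ * x⁻¹ * ρ⁻¹⁻¹ := by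
    rw [show x * (ρ * x * ρ⁻¹) = (x * ρ) ^ 3 * (ρ⁻¹ * x⁻¹ * ρ) * (ρ ^ 3)⁻¹ by
      simp only [pow_three']; group, p1, p2]
    group
  obtain ⟨g, g1, g2, g3⟩ := hb.tri x3 (y := ρ⁻¹ • ω) (z := ρ • ω)
    (by rw [p3]; exact smul_smul_fix ((stabilizer _ ω).inv_mem x3) _) (smul_smul_fix x3 _)
  obtain ⟨m, hm⟩ := hB g g1
  have m0 := eigen_ne_zero h.e_ne hm
  obtain ⟨z, z1, z2⟩ := h.exists_diag m0
  have hz := h.mem_center_of_diag (hS g m g1 hm) z1 z2
  obtain ⟨-, s, -, hs⟩ := center_spec ((Subgroup.center _).inv_mem hz)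
  obtain ⟨c', a', hg⟩ := h.isSiegel_of_fix (g := z⁻¹ * g) (by
    rw [mul_smul, hm, ← z1, inv_smul_smul])
  obtain ⟨m', hm'⟩ := line_of_fix hB g2
  rw [show ρ⁻¹ • e = l⁻¹ • f by rw [inv_smul_eq_iff, SU_smul_comm, r1, inv_smul_smul₀ l0]] at hm'
  obtain ⟨rfl, rfl⟩ := h.unip_fix hg (v := l⁻¹ • f) (by simp [herm_smul_left, h.fe, l0])
    (m := s * m') (by rw [mul_smul, hm', hs, mul_smul])
  rw [zero_smul] at hg
  rw [← inv_mul_eq_one.1 (hg.unique (isSiegel_one e)), hZ z hz] at g3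
  obtain ⟨m'', hm''⟩ := line_of_fix hB g3.symm
  exact c0 (h.unip_fix x1 r2 hm'').1

omit h in
theorem not_isBin_of_borel (e0 : e ≠ 0) (ee : 𝐡 e e = 0) (hq : 2 < q)
    (hZ : ∀ z ∈ Subgroup.center (SU 3 F q), ∀ x : Ω, z • x = x) {g : SU 3 F q} (hg : g • ω = ω)
    (hg' : ∀ z ∈ Subgroup.center (SU 3 F q), ∀ a, ¬ IsSiegel e 0 a (z * g)) :
    ¬ IsBin (SU 3 F q) Ω := by
  obtain ⟨n, f, h⟩ := exists_fr e0 ee
  by_cases hS : ∀ (g : SU 3 F q) (l : F), g • ω = ω → g • e = l • e → σ l = l ^ 2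
  · obtain ⟨m, hm⟩ := hB g hg
    obtain ⟨z, z1, z2⟩ := h.exists_diag (eigen_ne_zero e0 hm)
    have hz := (Subgroup.center _).inv_mem (h.mem_center_of_diag (hS g m hg hm) z1 z2)
    obtain ⟨c, a, hu⟩ := h.isSiegel_of_fix (g := z⁻¹ * g) (by rw [mul_smul, hm, ← z1, inv_smul_smul])
    refine h.not_isBin_of_four h2 hB hT hq hZ hS ?_ hu (by rw [mul_smul, hg, hZ _ hz])
    rintro rfl
    exact hg' _ hz a (by simpa using hu)
  push Not at hS
  obtain ⟨g, l, hg, hl, hl'⟩ := hS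
  have l0 := eigen_ne_zero e0 hl
  have l0' := (conj_ne_zero (q := q)).2 l0
  obtain ⟨d, he, hf⟩ := h.exists_diag l0
  have hn := (h.n_of_diag he hf).2
  obtain ⟨c, a, hu⟩ := h.isSiegel_of_fix (g := g * d⁻¹) (by
    rw [mul_smul, inv_smul_of_eigen l0 he, SU_smul_comm, hl, inv_smul_smul₀ l0])
  have l1 : l - σ l ^ 2 ≠ 0 := fun e => hl' (by
    rw [sub_eq_zero.1 e, map_pow, conj_conj, ← sub_eq_zero.1 e])
  obtain ⟨c', hc'⟩ : ∃ c', c' = c * l / (l - σ l ^ 2) := ⟨_, rfl⟩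
  obtain ⟨a', s, hs⟩ := exists_siegel' ee (w := c' • n) (by rw [herm_smul_left, h.ne, mul_zero])
  have h' := h.smul s
  rw [h.unip_e hs] at h'
  obtain ⟨b, hb⟩ : ∃ b, g • s • f = (σ l)⁻¹ • (s • f + b • e) := by
    refine ⟨a + σ l * l * a' - σ l * (c' * (σ l / l)) * σ c - a', ?_⟩
    conv_lhs => rw [← inv_mul_cancel_right g d, mul_smul]
    simp only [h.unip_f hs, smul_add, SU_smul_comm, he, hn, hf, h.unip_e hu, h.unip_n hu,
      h.unip_f hu]
    match_scalars <;> field_simp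
    · ring
    · rw [hc']; field_simp; ring
  have hb' := (h'.smul g).ff
  simp only [hb, herm_smul_left, herm_smul_right, herm_add_left, herm_add_right, h'.ff, h'.ef,
    h'.fe, h'.ee] at hb'
  obtain ⟨t, ht⟩ := exists_transvection ee (a := -b) (by
    simp [l0] at hb'
    field_simp at hb'
    rw [map_neg]; linear_combination -hb')
  have d1 : (t * g) • e = l • e := by
    rw [mul_smul, hl, SU_smul_comm, ht.smul_zero_vec, ee]; simp
  have d2 : (t * g) • s • f = (σ l)⁻¹ • s • f := by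
    rw [mul_smul, hb, SU_smul_comm, ht.smul_zero_vec, herm_add_left, herm_smul_left, h'.fe, ee]
    simp
  have d3 : (t * g) • ω = ω := by rw [mul_smul, hg, hT _ _ ht]
  generalize t * g = d at d1 d2 d3
  by_cases hN : l * σ l = 1
  · exact h'.not_isBin_of_homology h2 hB hT hN hl' d3 d1 d2
  have pw : ∀ {x : Fin 3 → F} {m : F}, d • x = m • x → ∀ k : ℕ, d ^ k • x = m ^ k • x := by
    intro x m hx k
    induction k with
    | zero => simp
    | succ k ih => rw [pow_succ, mul_smul, hx, SU_smul_comm, ih, smul_smul, pow_succ']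
  refine h'.not_isBin_of_split h2 hB hT (d := d ^ (q + 1)) (l := l * σ l)
    (by rw [map_mul, conj_conj, mul_comm]) hN ((stabilizer _ ω).pow_mem d3 _)
    (by rw [pw d1, mul_conj_eq_pow]) (by rw [pw d2, mul_conj_eq_pow, map_pow, inv_pow])

end Fr

/-- The isotropic vectors whose transvection group fixes `ω`. -/
def YY (q : ℕ) [MulAction (SU 3 F q) Ω] (ω : Ω) (u : Fin 3 → F) : Prop :=
  u ≠ 0 ∧ hermForm 3 F q u u = 0 ∧ ∀ a (t : SU 3 F q), IsSiegel u 0 a t → t • ω = ω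

omit hU in
theorem YY.smul {u : Fin 3 → F} (h : YY q ω u) {g : SU 3 F q} (hg : g • ω = ω) :
    YY q ω (g • u) :=
  ⟨fun e => h.1 ((smul_eq_zero_iff_eq g).1 e), by rw [SU_herm, h.2.1], fun a t ht => by
    simpa [hg] using fix_of_conj (k := g) (h.2.2 a _ (by simpa using ht.conj g⁻¹))⟩

theorem YY.scal {u : Fin 3 → F} (h : YY q ω u) {l : F} (hl : l ≠ 0) : YY q ω (l • u) :=
  ⟨smul_ne_zero hl h.1, by rw [herm_smul_left, herm_smul_right, h.2.1, mul_zero, mul_zero],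
    fun a t ht => h.2.2 _ t (by simpa using ht.of_smul)⟩

theorem YY.line {u v : Fin 3 → F} (hu : YY q ω u) (hv : YY q ω v) (huv : 𝐡 v u ≠ 0) {x y : F}
    (h0 : x • u + y • v ≠ 0) (h : 𝐡 (x • u + y • v) (x • u + y • v) = 0) :
    YY q ω (x • u + y • v) := by
  by_cases hy : y = 0
  · rw [hy, zero_smul, add_zero] at h0 ⊢
    exact hu.scal (left_ne_zero_of_smul h0)
  have hy' := (conj_ne_zero (q := q)).2 hy
  have huv' := herm_comm_ne huv
  obtain ⟨t, ht⟩ := exists_transvection hu.2.1 (a := x / (y * 𝐡 v u)) (by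
    simp only [herm_add_left, herm_add_right, herm_smul_left, herm_smul_right, hu.2.1, hv.2.1] at h
    rw [map_div₀, map_mul, herm_conj]
    field_simp
    linear_combination h)
  convert (hv.smul (hu.2.2 _ t ht)).scal hy using 1
  rw [ht.smul_zero_vec]
  match_scalars <;> field_simp

theorem Fr.yy_all {e n f : Fin 3 → F} (h : Fr q e n f) (he : YY q ω e) (hf : YY q ω f)
    {p : Fin 3 → F} (hp : YY q ω p) (hpn : 𝐡 p n ≠ 0) {r : Fin 3 → F} (r0 : r ≠ 0)
    (hr : 𝐡 r r = 0) : YY q ω r := by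
  by_contra hne
  have := hU.finite
  obtain ⟨m, s, h'⟩ := exists_fr r0 hr
  have nz : ∀ {v}, YY q ω v → 𝐡 v r ≠ 0 := fun hv e => by
    obtain ⟨l, rfl⟩ := iso_par hv.1 hv.2.1 hr (herm_comm_zero e)
    exact hne (hv.scal (left_ne_zero_of_smul r0))
  have par : ∀ {v v'}, YY q ω v → YY q ω v' → 𝐡 v m / 𝐡 v r = 𝐡 v' m / 𝐡 v' r →
      ∃ l : F, v' = l • v := fun {v v'} hv hv' e => by
    by_contra hpar
    have h1 : 𝐡 v' v ≠ 0 := fun e => hpar (iso_par hv.1 hv.2.1 hv'.2.1 e)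
    have h2 := h'.decomp ((𝐡 v r)⁻¹ • v + (-(𝐡 v' r)⁻¹) • v')
    have n1 := nz hv
    have n2 := nz hv'
    simp only [herm_add_left, herm_smul_left] at h2
    rw [show (𝐡 v r)⁻¹ * 𝐡 v m + -(𝐡 v' r)⁻¹ * 𝐡 v' m = 0 by linear_combination e,
      show (𝐡 v r)⁻¹ * 𝐡 v r + -(𝐡 v' r)⁻¹ * 𝐡 v' r = 0 by field_simp; ring, zero_smul, zero_smul,
      add_zero, add_zero] at h2
    generalize (𝐡 v r)⁻¹ * 𝐡 v s + -(𝐡 v' r)⁻¹ * 𝐡 v' s = c at h2
    by_cases hc : c = 0
    · rw [hc, zero_smul, neg_smul, add_neg_eq_zero, eq_inv_smul_iff₀ n2, smul_smul] at h2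
      exact hpar ⟨_, h2.symm⟩
    · have := hv.line hv' h1 (h2 ▸ smul_ne_zero hc r0) (by
        rw [h2, herm_smul_left, herm_smul_right, hr, mul_zero, mul_zero])
      rw [h2] at this
      exact hne (by simpa [hc] using this.scal (inv_ne_zero hc))
  let K := {t : F // t + σ t = 0}
  have hw : ∀ b : K, YY q ω (b.1 • e + (1 : F) • f) := fun b => he.line hf
    (by rw [h.fe]; exact one_ne_zero) (fun e0 => by
      simpa [herm_add_left, herm_smul_left, h.ee, h.fe, herm_zero_left] using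
        congrArg (fun x => 𝐡 x e) e0) (by
      simpa [herm_add_left, herm_add_right, herm_smul_left, herm_smul_right, h.ee, h.fe, h.ef, h.ff,
        add_comm] using b.2)
  have hwn : ∀ b : K, 𝐡 (b.1 • e + (1 : F) • f) n = 0 := fun b => by
    simp [herm_add_left, herm_smul_left, h.en, h.fn]
  have hwp : ∀ b : K, 𝐡 (b.1 • e + (1 : F) • f) p ≠ 0 := fun b e0 => by
    obtain ⟨l, hl⟩ := iso_par (hw b).1 (hw b).2.1 hp.2.1 (herm_comm_zero e0)
    exact hpn (by rw [hl, herm_smul_left, hwn, mul_zero])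
  let v : Option (K × K) → Fin 3 → F := fun o => o.elim p fun x =>
    (x.2.1 • e + (1 : F) • f) + (x.1.1 * 𝐡 (x.2.1 • e + (1 : F) • f) p) • p
  have hv : ∀ o, YY q ω (v o) := by
    rintro (_ | ⟨a, b⟩)
    · exact hp
    · obtain ⟨t, ht⟩ := exists_transvection hp.2.1 a.2
      have := (hw b).smul (hp.2.2 _ t ht)
      rwa [ht.smul_zero_vec] at this
  have vp : ∀ x : K × K, 𝐡 (v (some x)) p = 𝐡 (x.2.1 • e + (1 : F) • f) p := fun x => by
    simp only [v, Option.elim]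
    rw [herm_add_left _ _ p, herm_smul_left _ p, hp.2.1, mul_zero, add_zero]
  have vn : ∀ x : K × K, 𝐡 (v (some x)) n = x.1.1 * 𝐡 (x.2.1 • e + (1 : F) • f) p * 𝐡 p n :=
    fun x => by
      simp only [v, Option.elim]
      rw [herm_add_left _ _ n, hwn, herm_smul_left, zero_add]
  have hinj : Function.Injective fun o => 𝐡 (v o) m / 𝐡 (v o) r := by
    intro o o' e0
    obtain ⟨l, hl⟩ := par (hv o) (hv o') e0
    have h1 := congrArg (fun x => 𝐡 x p) hl
    simp only [herm_smul_left] at h1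
    rcases o with _ | ⟨a, b⟩ <;> rcases o' with _ | ⟨a', b'⟩
    · rfl
    · rw [vp] at h1
      exact absurd (h1.trans (by simp [v, hp.2.1])) (hwp b')
    · rw [vp] at h1
      have l0 : l ≠ 0 := by rintro rfl; exact hp.1 (by simpa [v] using hl)
      exact absurd (by simpa [v, hp.2.1] using h1.symm) (mul_ne_zero l0 (hwp b))
    · rw [vp, vp] at h1
      have h3 := congrArg (fun x => 𝐡 x n) hl
      simp only [herm_smul_left, vn] at h3
      simp only [v, Option.elim] at h1 hl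
      obtain rfl : a = a' := Subtype.ext (mul_right_cancel₀ (mul_ne_zero (hwp b') hpn) (by
        linear_combination -h3 + a.1 * 𝐡 p n * h1))
      rw [h1] at hl
      obtain ⟨h4, -, h5⟩ := h.comb_inj (a := b'.1) (b := 0) (c := 1) (a' := l * b.1) (b' := 0)
        (c' := l) (by linear_combination (norm := module) hl)
      rw [show b = b' from Subtype.ext (by rw [h4, ← h5, one_mul])]
  have := Nat.card_le_card_of_injective _ hinj
  rw [Finite.card_option, Nat.card_prod, card_trace_fiber (map_zero _), hU.card_eq, sq] at this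
  omega

theorem Fr.fix_of_fix_n {e n f : Fin 3 → F} (h : Fr q e n f) (he : YY q ω e) (hf : YY q ω f)
    {g : SU 3 F q} (hg : g • n = n) : g • ω = ω := by
  have pr : ∀ x, x - 𝐡 x n • n ∈ perp2 q ⊤ n n := fun x => by
    simp [mem_perp2, herm_sub_left, herm_smul_left, h.nn]
  have hW : Split q (perp2 q ⊤ n n) := fun x => ⟨_, pr x, fun w hw => by
    rw [sub_sub_cancel, herm_smul_left, herm_comm_zero hw.2.1, mul_zero]⟩
  refine SW_induction (P := fun g => g • ω = ω) (one_smul _ _) ?_ (hW.mem_SW (g := g) fun y hy => ?_)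
  · intro u hu w hw a s g uu wu hs hg
    rw [mul_smul, hg]
    by_cases u0 : u = 0
    · subst u0
      rw [hs.eq_one_of_zero, one_smul]
    obtain ⟨v, hv, vv, uv⟩ := hW.exists_partner hu u0 uu
    have h1 := (Fr.mk' uu vv uv (herm_comm_zero hu.2.1) (herm_comm_zero hv.2.1) h.nn).decomp w
    have h3 := h.decomp u
    rw [hw.2.1, wu, zero_smul, zero_smul, add_zero, add_zero, ← zero_add (_ • u)] at h1
    rw [hu.2.1, zero_smul, add_zero] at h3
    have h4 := he.line hf (by rw [h.fe]; exact one_ne_zero) (h3 ▸ u0) (h3 ▸ uu)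
    exact (h3 ▸ h4 : YY q ω u).2.2 _ s (IsSiegel.of_add_smul _ (h1 ▸ hs))
  · rw [h.eq_of_orth (hy e ⟨trivial, h.en, h.en⟩) (hy f ⟨trivial, h.fn, h.fn⟩), SU_smul_comm, hg]

theorem Fr.exists_smul_n {e n f : Fin 3 → F} (h : Fr q e n f) (h2 : (2 : F) = 0)
    {x y z : Fin 3 → F} (xx : 𝐡 x x ≠ 0) (yy : 𝐡 y y ≠ 0) (zz : 𝐡 z z ≠ 0) (xy : 𝐡 x y = 0)
    (xz : 𝐡 x z = 0) (yz : 𝐡 y z = 0) : ∃ (k : SU 3 F q) (c : F), c ≠ 0 ∧ k • n = c • x := by
  have nm : ∀ v, 𝐡 v v ≠ 0 → ∃ l : F, l ≠ 0 ∧ l * σ l * 𝐡 v v = 1 := fun v hv => by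
    obtain ⟨l, hl⟩ := exists_norm_eq (q := q) (μ := (𝐡 v v)⁻¹) (by rw [map_inv₀, herm_conj])
    exact ⟨l, by rintro rfl; exact inv_ne_zero hv (by simpa using hl.symm),
      by rw [hl, inv_mul_cancel₀ hv]⟩
  obtain ⟨a, a0, ha⟩ := nm x xx
  obtain ⟨b, -, hb⟩ := nm y yy
  obtain ⟨c, -, hc⟩ := nm z zz
  obtain ⟨κ, hκ⟩ := exists_trace_eq_one F q
  have zy := herm_comm_zero yz
  have h' : Fr q (b • y + c • z) (a • x) ((κ * b) • y + (σ κ * c) • z) := by
    refine .mk' ?_ ?_ ?_ ?_ ?_ ?_ <;>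
      simp only [herm_add_left, herm_add_right, herm_smul_left, herm_smul_right, xy, xz, yz, zy,
        map_mul, conj_conj]
    · linear_combination hb + hc + h2
    · linear_combination κ * σ κ * (hb + hc + h2)
    · linear_combination σ κ * hb + κ * hc + hκ
    · ring
    · ring
    · linear_combination ha
  obtain ⟨k, k1, k2⟩ := exists_SU_pair le_rfl h.ee h.ff h'.ee h'.ff (h.ef.trans h'.ef.symm)
    (by rw [h.ef]; exact one_ne_zero)
  have h3 := h.smul k
  rw [k1, k2] at h3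
  have h4 := h'.eq_of_orth h3.ne h3.nf
  rw [smul_smul] at h4
  exact ⟨k, _, left_ne_zero_of_smul (h4 ▸ h3.n_ne), h4⟩

theorem Fr.not_isBin_of_line {e n f : Fin 3 → F} (h : Fr q e n f) (h2 : (2 : F) = 0) (hq : 2 < q)
    (hL : ∀ g : SU 3 F q, g • n = n → g • ω = ω)
    (hN : ∀ g : SU 3 F q, g • ω = ω → ∃ l : F, g • n = l • n) : ¬ IsBin (SU 3 F q) Ω := by
  intro hb
  have := hU.finite
  obtain ⟨κ, hκ⟩ := exists_trace_eq_one F q
  obtain ⟨c, hc⟩ : ∃ c, c = κ • e + (0 : F) • n + (1 : F) • f := ⟨_, rfl⟩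
  obtain ⟨c', hc'⟩ : ∃ c', c' = σ κ • e + (0 : F) • n + (1 : F) • f := ⟨_, rfl⟩
  have cc : 𝐡 c c = 1 := by rw [hc, h.herm_comb]; simpa using hκ
  have cc' : 𝐡 c' c' = 1 := by rw [hc', h.herm_comb]; simpa [conj_conj, add_comm] using hκ
  have c1 : 𝐡 c c' = 0 := by
    rw [hc, hc', h.herm_comb, conj_conj, map_one]; linear_combination κ * h2
  have c2 : 𝐡 c n = 0 := by rw [hc, h.comb_n]
  have c3 : 𝐡 c' n = 0 := by rw [hc', h.comb_n]
  have c4 := herm_comm_zero c1
  have c5 := herm_comm_zero c2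
  have c6 := herm_comm_zero c3
  have nn := h.nn
  clear hc hc'
  have o : ∀ {v : Fin 3 → F}, 𝐡 v v = 1 → 𝐡 v v ≠ 0 := fun hv => hv ▸ one_ne_zero
  have unsc : ∀ {g : SU 3 F q} {v : Fin 3 → F} {a l : F}, a ≠ 0 → g • a • v = l • a • v →
      g • v = l • v := fun {g v a l} a0 hv =>
    smul_right_injective _ a0 (by rw [SU_smul_comm, smul_comm l] at hv; exact hv)
  have li : LinearIndependent F ![c, c', n] := by
    rw [Fintype.linearIndependent_iff]
    intro g hg i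
    rw [Fin.sum_univ_three] at hg
    fin_cases i
    · simpa [herm_add_left, herm_smul_left, herm_zero_left, *] using congrArg (fun x => 𝐡 x c) hg
    · simpa [herm_add_left, herm_smul_left, herm_zero_left, *] using congrArg (fun x => 𝐡 x c') hg
    · simpa [herm_add_left, herm_smul_left, herm_zero_left, *] using congrArg (fun x => 𝐡 x n) hg
  have full : ∀ (g : SU 3 F q) (d : F), g • n = d • n → g • ω = ω := by
    intro g₀ d hd
    have dd : d * σ d = 1 := by
      rw [← nn, ← SU_herm g₀ n n, hd, herm_smul_left, herm_smul_right, nn, mul_one]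
    obtain ⟨k, s, s0, hk⟩ := h.exists_smul_n h2 (o cc) (o cc') (o nn) c1 c2 c3
    obtain ⟨k', s', s0', hk'⟩ := h.exists_smul_n h2 (o cc') (o cc) (o nn) c4 c3 c2
    obtain ⟨a, ha⟩ := exists_diag_pair (o nn) (o cc') c3 dd
    obtain ⟨b, hb'⟩ := exists_diag_pair (o nn) (o cc) c2 dd
    have an : a • n = d • n := by simp [ha, nn, c6, sub_smul]
    have bn : b • n = d • n := by simp [hb', nn, c5, sub_smul]
    obtain ⟨g, g1, g2, g3⟩ := hb.star2 (a := a) (b := b) (x := k • ω) (y := k' • ω) (z := ω)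
      (fix_of_conj (hL _ (by
        rw [mul_smul, mul_smul, inv_smul_eq_iff, hk, SU_smul_comm, ha, c2, c1]; simp)))
      (fix_of_conj (hL _ (by
        rw [mul_smul, mul_smul, inv_smul_eq_iff, hk', SU_smul_comm, hb', c3, c4]; simp)))
      (by
        rw [← inv_smul_eq_iff, ← mul_smul]
        exact hL _ (by rw [mul_smul, an, ← bn, inv_smul_smul]))
    have g3' : (a⁻¹ * g) • ω = ω := by rw [mul_smul, g3, inv_smul_smul]
    obtain ⟨x, hx⟩ := hN _ (fix_conj g1)
    obtain ⟨y, hy⟩ := hN _ (fix_conj g2)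
    obtain ⟨z, hz⟩ := hN _ g3'
    have e1 := prod_eq_one_of_eigen li (g := g) (a := x) (b := y) (c := z * d)
      (unsc s0 (by rw [← hk, ← SU_smul_comm, ← hx]; simp [mul_smul]))
      (unsc s0' (by rw [← hk', ← SU_smul_comm, ← hy]; simp [mul_smul]))
      (by rw [mul_smul, ← an, ← SU_smul_comm, ← hz]; simp [mul_smul])
    have := hL (g₀ * (k⁻¹ * g * k * (k'⁻¹ * g * k' * (a⁻¹ * g)))) (by
      rw [mul_smul, mul_smul, mul_smul _ (a⁻¹ * g), hz]
      simp only [SU_smul_comm, hy, hx, hd, smul_smul]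
      rw [show z * y * x * d = 1 by linear_combination e1, one_smul])
    rwa [mul_smul, mul_smul, mul_smul _ (a⁻¹ * g), g3', fix_conj g2, fix_conj g1] at this
  obtain ⟨x, hx⟩ := exists_conj_ne F q
  have x0 : x ≠ 0 := by rintro rfl; simp at hx
  have x0' := (conj_ne_zero (q := q)).2 x0
  obtain ⟨d, hd⟩ : ∃ d, d = σ x / x := ⟨_, rfl⟩
  have dd : d * σ d = 1 := by rw [hd, map_div₀, conj_conj]; field_simp
  have d1 : d - 1 ≠ 0 := by rw [hd, sub_ne_zero, Ne, div_eq_one_iff_eq x0]; exact hx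
  obtain ⟨s, s0, hs⟩ := exists_pow_ne_one (F := F) (d := q + 1) (by omega) (by
    rw [card_units F q]; exact lt_mul_of_one_lt_right (by omega) (by omega))
  rw [← mul_conj_eq_pow] at hs
  have s0' := (conj_ne_zero (q := q)).2 s0
  obtain ⟨N, hN'⟩ : ∃ N, N = s * σ s := ⟨_, rfl⟩
  have Nc : σ N = N := by rw [hN', map_mul, conj_conj, mul_comm]
  have N0 : N ≠ 0 := hN' ▸ mul_ne_zero s0 s0'
  have N1 : 1 + N ≠ 0 := fun e => hs (by linear_combination e - hN' - h2)
  have sq0 : ∀ {x : F}, x ^ 2 = 0 → x = 0 := fun h => pow_eq_zero_iff two_ne_zero |>.1 h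
  have Nd : N + d ≠ 0 := fun e => d1 (sq0 (by
    have e' := congrArg σ e
    rw [map_add, Nc, map_zero] at e'
    linear_combination d * e - d * e' + dd + (1 - d) * h2))
  have Nd' : N + σ d ≠ 0 := fun e => Nd (by simpa [Nc, conj_conj] using congrArg σ e)
  obtain ⟨s', hs'⟩ : ∃ s', s' = s * (1 + N * d) / (N * (N + d)) := ⟨_, rfl⟩
  have hs'' : σ s' = σ s * (1 + N * σ d) / (N * (N + σ d)) := by simp [hs', Nc]
  have t1 : s' * σ s' = N⁻¹ := by
    rw [hs'', hs']
    field_simp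
    linear_combination -(1 + N * d) * (1 + N * σ d) * hN' + N * (N ^ 2 - 1) * dd
  have key : ∀ t : F, 1 + t * σ t ≠ 0 → ∃ a k : SU 3 F q, ∃ r : F, r ≠ 0 ∧ a • k • ω = k • ω ∧
      k • n = r • (n + t • c) ∧ a • n = n + ((d - 1) / (1 + t * σ t)) • (n + t • c) := by
    intro t ht
    have u1 : 𝐡 (n + t • c) (n + t • c) = 1 + t * σ t := by
      simp [herm_add_left, herm_add_right, herm_smul_left, herm_smul_right, *, mul_comm]
    have u2 : 𝐡 (n + t • c) c' = 0 := by simp [herm_add_left, herm_smul_left, *]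
    obtain ⟨k, r, r0, hk⟩ := h.exists_smul_n h2 (x := n + t • c) (y := σ t • n + c) (u1 ▸ ht)
      (by simp [herm_add_left, herm_add_right, herm_smul_left, herm_smul_right, *, conj_conj,
        add_comm]) (o cc')
      (by
        simp [herm_add_left, herm_add_right, herm_smul_left, herm_smul_right, *, conj_conj]
        linear_combination t * h2) u2 (by simp [herm_add_left, herm_smul_left, *])
    obtain ⟨a, ha⟩ := exists_diag_pair (u1 ▸ ht) (o cc') (herm_comm_zero u2) dd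
    refine ⟨a, k, r, r0, fix_of_conj (full _ d ?_), hk, ?_⟩
    · rw [mul_smul, mul_smul, inv_smul_eq_iff, SU_smul_comm, hk, SU_smul_comm, ha, u1, u2]
      match_scalars <;> field_simp <;> ring
    · simp [ha, u1, c6, herm_add_right, herm_smul_right, nn, c5]
  have N2 : 1 + N⁻¹ ≠ 0 := fun e => N1 (by field_simp at e; linear_combination e)
  obtain ⟨a, k, r, r0, a1, a2, a3⟩ := key s (hN' ▸ N1)
  obtain ⟨b, k', r', r0', b1, b2, b3⟩ := key s' (t1 ▸ N2)
  rw [← hN'] at a3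
  rw [t1, show (d - 1) / (1 + N⁻¹) = N * (d - 1) / (1 + N) by
    rw [div_eq_div_iff N2 N1]; field_simp; ring] at b3
  have Nd2 : 1 + N * d ≠ 0 := fun e => Nd' (by linear_combination σ d * e - N * dd)
  have Nd3 : 1 + d * N ≠ 0 := by rwa [mul_comm]
  have ab : a • n = ((N + d) / (1 + N * d)) • b • n := by
    rw [a3, b3, hs']
    match_scalars <;> field_simp <;> ring
  obtain ⟨g, g1, g2, g3⟩ := hb.star2 a1 b1 (z := ω) (by
    rw [← inv_smul_eq_iff, ← mul_smul]
    exact full _ _ (by rw [mul_smul, ab, SU_smul_comm, inv_smul_smul]))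
  obtain ⟨x, g1⟩ := line_of_fix hN g1
  obtain ⟨y, g2⟩ := line_of_fix hN g2
  obtain ⟨z, g3⟩ := line_of_fix hN (g := g) (k := 1) (k' := a) (by rwa [one_smul])
  rw [a2] at g1
  rw [b2] at g2
  replace g1 := unsc r0 g1
  replace g2 := unsc r0' g2
  have w1 := SU_herm g (n + s • c) (n + s • c)
  have w2 := SU_herm g (n + s • c) (n + s' • c)
  rw [g1] at w1
  rw [g1, g2] at w2
  simp only [herm_add_left, herm_add_right, herm_smul_left, herm_smul_right, nn, cc, c2, c5] at w1 w2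
  have w3 : 1 + s * σ s' ≠ 0 := fun e => by
    rw [hs''] at e
    field_simp at e
    refine mul_ne_zero (mul_ne_zero N0 N1) (mt (fun e => ?_) d1) (?_ : N * (1 + N) * (1 + σ d) = 0)
    · linear_combination d * e - dd - h2
    · linear_combination e + (1 + N * σ d) * hN'
  have w4 : x * σ x = 1 := mul_right_cancel₀ N1 (by linear_combination w1 + (x * σ x - 1) * hN')
  have w5 : x * σ y = 1 := mul_right_cancel₀ w3 (by linear_combination w2)
  obtain rfl : x = y := conj_injective (q := q)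
    (mul_left_cancel₀ (left_ne_zero_of_mul_eq_one w4) (w4.trans w5.symm))
  have ss : s' - s ≠ 0 := fun e => N1 (sq0 (by
    rw [sub_eq_zero.1 e, ← hN'] at t1
    field_simp at t1
    linear_combination t1 + (1 + N) * h2))
  have g4 : g • n = x • n := smul_right_injective _ ss (by
    simp only [smul_add, SU_smul_comm] at g1 g2
    generalize g • n = v at g1 g2 ⊢
    generalize g • c = v' at g1 g2
    linear_combination (norm := module) s' • g1 - s • g2)
  rw [one_smul, g4, a3] at g3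
  have w6 := congrArg (fun v => 𝐡 v c) g3
  have w7 := congrArg (fun v => 𝐡 v n) g3
  simp only [herm_add_left, herm_smul_left, nn, cc, c2, c5] at w6 w7
  have z0 : z ≠ 0 := by
    rintro rfl
    exact left_ne_zero_of_mul_eq_one w4 (by simpa using w7)
  exact mul_ne_zero z0 (mul_ne_zero (div_ne_zero d1 N1) s0) (by linear_combination -w6)

theorem transv_of_isBin (h2 : (2 : F) = 0) (hq : 2 < q)
    (hZ : ∀ z ∈ Subgroup.center (SU 3 F q), ∀ x : Ω, z • x = x) (hb : IsBin (SU 3 F q) Ω)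
    (htop : stabilizer (SU 3 F q) ω ≠ ⊤) {e : Fin 3 → F} (he : YY q ω e) {g : SU 3 F q}
    (hg : g • ω = ω) : ∃ z ∈ Subgroup.center (SU 3 F q), ∃ a, IsSiegel e 0 a (z * g) := by
  by_contra! hne
  by_cases h1 : ∀ u, YY q ω u → 𝐡 u e = 0
  · exact Fr.not_isBin_of_borel h2 (fun k hk => iso_par he.1 he.2.1 (he.smul hk).2.1
      (h1 _ (he.smul hk))) he.2.2 he.1 he.2.1 hq hZ hg hne hb
  push Not at h1
  obtain ⟨u, hu, hue⟩ := h1
  have hf := hu.scal (inv_ne_zero hue)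
  obtain ⟨n, h⟩ := exists_fr_of_pair he.2.1 hf.2.1 (herm_comm_one (by
    rw [herm_smul_left, inv_mul_cancel₀ hue]))
  by_cases h3 : ∀ p, YY q ω p → 𝐡 p n = 0
  · exact h.not_isBin_of_line h2 hq (fun g => h.fix_of_fix_n he hf) (fun g hg =>
      (h.exists_n (h3 _ (he.smul hg)) (h3 _ (hf.smul hg))).imp fun _ h => h.2) hb
  push Not at h3
  obtain ⟨p, hp, hpn⟩ := h3
  refine htop (top_le_iff.1 ((closure_transvections le_rfl (by omega)).ge.trans
    ((Subgroup.closure_le _).2 ?_)))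
  rintro t ⟨r, a, hr, ht⟩
  by_cases r0 : r = 0
  · subst r0
    rw [ht.eq_one_of_zero]
    exact one_smul _ _
  · exact (h.yy_all he hf hp hpn r0 hr).2.2 a t ht

/-- The group of transvections with centre `u`. -/
def ZU (u : Fin 3 → F) (hu : hermForm 3 F q u u = 0) : Subgroup (SU 3 F q) where
  carrier := {g | ∃ a, IsSiegel u 0 a g}
  mul_mem' := by
    rintro g k ⟨a, hg⟩ ⟨a', hk⟩
    exact ⟨_, by simpa using hg.mul hk hu (herm_zero_left _) (herm_zero_left _)⟩
  one_mem' := ⟨0, isSiegel_one u⟩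
  inv_mem' := by
    rintro g ⟨a, hg⟩
    exact ⟨_, by simpa using hg.inv hu (herm_zero_left _)⟩

local notation "π" => QuotientGroup.mk' (Subgroup.center (SU 3 F q))

theorem ZU_le_of_par {u v : Fin 3 → F} (hu : 𝐡 u u = 0) (hv : 𝐡 v v = 0) {l : F} (h : v = l • u) :
    ZU v hv ≤ ZU u hu := by
  rintro g ⟨a, hg⟩
  subst h
  exact ⟨_, by simpa using hg.of_smul⟩

theorem ZU_eq_of_par {u v : Fin 3 → F} (hu : 𝐡 u u = 0) (hv : 𝐡 v v = 0) (v0 : v ≠ 0) {l : F}
    (h : v = l • u) : ZU v hv = ZU u hu :=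
  le_antisymm (ZU_le_of_par hu hv h) (ZU_le_of_par hv hu (l := l⁻¹) (by
    rw [h, inv_smul_smul₀ (left_ne_zero_of_smul (h ▸ v0))]))

theorem transv_mul_self (h2 : (2 : F) = 0) {u : Fin 3 → F} (hu : 𝐡 u u = 0) {t : SU 3 F q}
    (ht : t ∈ ZU u hu) : t * t = 1 := by
  obtain ⟨a, ht⟩ := ht
  have := ht.mul ht hu (herm_zero_left _) (herm_zero_left _)
  rw [add_zero, herm_zero_left, sub_zero, ← two_mul, h2, zero_mul] at this
  exact this.unique (isSiegel_one u)

theorem mul_self_mem_ZU (h2 : (2 : F) = 0) {u : Fin 3 → F} (hu : 𝐡 u u = 0) {t : SU 3 F q}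
    (ht : t ∈ QU u hu) : t * t ∈ ZU u hu := by
  obtain ⟨w, a, hw, ht⟩ := ht
  have := ht.mul ht hu hw hw
  rw [← two_smul F, h2, zero_smul] at this
  exact ⟨_, this⟩

theorem eq_one_of_center_QU (h2 : (2 : F) = 0) {u : Fin 3 → F} (hu : 𝐡 u u = 0) {t : SU 3 F q}
    (ht : t ∈ QU u hu) (hz : t ∈ Subgroup.center (SU 3 F q)) : t = 1 := by
  have h1 := transv_mul_self h2 hu (mul_self_mem_ZU h2 hu ht)
  rwa [show t * t * (t * t) = t ^ 3 * t by simp only [pow_three', mul_assoc], (center_spec hz).1,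
    one_mul] at h1

theorem ZU_le_QU {u : Fin 3 → F} (hu : 𝐡 u u = 0) : ZU u hu ≤ QU u hu :=
  fun _ ⟨a, h⟩ => ⟨0, a, herm_zero_left _, h⟩

/-- An element commuting modulo the centre with a transvection fixes its centre. -/
theorem fix_of_comm (h2 : (2 : F) = 0) {u : Fin 3 → F} (hu : 𝐡 u u = 0) {t g : SU 3 F q}
    (ht : t ∈ ZU u hu) (t1 : t ≠ 1) (h : π g * π t = π t * π g) : ∃ l : F, g • u = l • u := by
  have h1 : π t = π (g * t * g⁻¹) := by rw [map_mul, map_mul, h, map_inv, mul_inv_cancel_right]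
  obtain ⟨z, hz, e⟩ := (QuotientGroup.mk'_eq_mk' _).1 h1
  have tt := transv_mul_self h2 hu ht
  have h3 : z * z = 1 := by
    have : t * z * (t * z) = 1 := by
      rw [e, show g * t * g⁻¹ * (g * t * g⁻¹) = g * (t * t) * g⁻¹ by group, tt]; group
    rwa [mul_assoc, ← mul_assoc z, ← Subgroup.mem_center_iff.1 hz t, ← mul_assoc, ← mul_assoc, tt,
      one_mul] at this
  obtain rfl : z = 1 := by simpa [pow_three', h3] using (center_spec hz).1
  obtain ⟨a, ht⟩ := ht
  have h4 := ht.conj g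
  rw [← e, mul_one, smul_zero] at h4
  exact fix_line_of_isSiegel (by rintro rfl; exact t1 (ht.unique (isSiegel_one u))) ht h4

variable (hone : ∀ s t : PSU 3 F q, orderOf s = 2 → orderOf t = 2 → IsConj s t)
  (h2 : (2 : F) = 0)
include hone h2

theorem exists_transv_of_inv {s : PSU 3 F q} (s1 : s ≠ 1) (s2 : s * s = 1) :
    ∃ (u : Fin 3 → F) (hu : 𝐡 u u = 0), u ≠ 0 ∧ ∃ t ∈ ZU u hu, t ≠ 1 ∧ π t = s := by
  obtain ⟨e, e0, ee⟩ := exists_isotropic (F := F) (q := q) (n := 3) (by norm_num)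
  obtain ⟨t, ht⟩ := exists_transvection ee (a := 1) (by rw [map_one]; linear_combination h2)
  obtain ⟨n, f, h⟩ := exists_fr e0 ee
  have t1 : t ≠ 1 := by
    rintro rfl
    simpa [h.fe, e0] using ht.smul_zero_vec f
  obtain ⟨k, rfl⟩ := isConj_iff.1 (hone (π t) s (orderOf_eq_prime (by
    rw [sq, ← map_mul, transv_mul_self h2 ee ⟨_, ht⟩, map_one]) fun e => t1
      (eq_one_of_center_QU h2 ee (ZU_le_QU ee ⟨_, ht⟩) ((QuotientGroup.eq_one_iff _).1 e)))
    (orderOf_eq_prime ((sq s).trans s2) s1))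
  obtain ⟨k, rfl⟩ := QuotientGroup.mk'_surjective _ k
  exact ⟨k • e, by rw [SU_herm, ee], fun e => e0 ((smul_eq_zero_iff_eq k).1 e), k * t * k⁻¹,
    ⟨_, by simpa using ht.conj k⟩, by simpa using t1, by simp⟩

omit hone in
theorem isPGroup_QU {u : Fin 3 → F} (hu : 𝐡 u u = 0) : IsPGroup 2 ((QU u hu).map π) :=
  IsPGroup.map (fun g => ⟨2, Subtype.ext (by
    simpa [pow_succ, mul_assoc] using transv_mul_self h2 hu (mul_self_mem_ZU h2 hu g.2))⟩) _

theorem exists_eq_QU (P : Sylow 2 (PSU 3 F q)) :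
    ∃ (u : Fin 3 → F) (hu : 𝐡 u u = 0), u ≠ 0 ∧ (P : Subgroup (PSU 3 F q)) = (QU u hu).map π := by
  have := hU.finite
  have : CharP F 2 := (CharP.charP_iff_prime_eq_zero Nat.prime_two).2 (by exact_mod_cast h2)
  by_cases hP : (P : Subgroup (PSU 3 F q)) = ⊥
  · obtain ⟨e, e0, ee⟩ := exists_isotropic (F := F) (q := q) (n := 3) (by norm_num)
    exact ⟨e, ee, e0, (P.3 (isPGroup_QU h2 ee) (hP ▸ bot_le)).symm⟩
  have : Nontrivial P := (Subgroup.nontrivial_iff_ne_bot _).2 hP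
  have := P.isPGroup'.center_nontrivial
  obtain ⟨z, hz⟩ := exists_prime_orderOf_dvd_card' (G := Subgroup.center P) 2 (by
    obtain ⟨n, hn, e⟩ := (IsPGroup.nontrivial_iff_card (P.isPGroup'.to_subgroup _)).1 this
    rw [e]
    exact dvd_pow_self 2 hn.ne')
  obtain ⟨z2, z1⟩ := orderOf_eq_prime_iff.1 hz
  obtain ⟨u, hu, u0, t, ht, t1, e⟩ := exists_transv_of_inv hone h2 (s := z.1.1)
    (fun e => z1 (Subtype.ext (Subtype.ext e))) (by simpa [Subtype.ext_iff, sq] using z2)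
  refine ⟨u, hu, u0, (P.3 (isPGroup_QU h2 hu) fun g hg => ?_).symm⟩
  obtain ⟨k, hk⟩ := P.isPGroup' ⟨g, hg⟩
  obtain ⟨g, rfl⟩ := QuotientGroup.mk'_surjective _ g
  obtain ⟨l, hl⟩ := fix_of_comm h2 hu ht t1 (g := g)
    (e ▸ congrArg Subtype.val (Subgroup.mem_center_iff.1 z.2 ⟨_, hg⟩))
  obtain ⟨-, c, hc, hc'⟩ := center_spec (z := g ^ 2 ^ k) ((QuotientGroup.eq_one_iff _).1
    (by simpa [Subtype.ext_iff] using hk))
  have pw : ∀ k : ℕ, g ^ k • u = l ^ k • u := fun k => by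
    induction k with
    | zero => simp
    | succ k ih => rw [pow_succ, mul_smul, hl, SU_smul_comm, ih, smul_smul, pow_succ']
  obtain rfl : l ^ 2 ^ k = c := smul_left_injective F u0 ((pw _).symm.trans (hc' u))
  have h3 : σ l = l ^ 2 := by
    rw [map_pow, ← pow_mul, mul_comm, pow_mul, ← sub_eq_zero, ← sub_pow_char_pow] at hc
    exact sub_eq_zero.1 (pow_eq_zero_iff (by positivity) |>.1 hc)
  obtain ⟨n, f, h⟩ := exists_fr u0 hu
  obtain ⟨d, d1, d2⟩ := h.exists_diag (eigen_ne_zero u0 hl)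
  obtain ⟨c, a, h4⟩ := h.isSiegel_of_fix (g := d⁻¹ * g) (by rw [mul_smul, hl, ← d1, inv_smul_smul])
  refine ⟨_, ⟨_, a, by rw [herm_smul_left, h.ne, mul_zero], h4⟩, ?_⟩
  rw [map_mul, map_inv, show π d = 1 from (QuotientGroup.eq_one_iff _).2
    (h.mem_center_of_diag h3 d1 d2), inv_one, one_mul]

omit hone in
theorem center_QU {u : Fin 3 → F} (hu : 𝐡 u u = 0) (u0 : u ≠ 0) {P : Subgroup (PSU 3 F q)}
    (hP : P = (QU u hu).map π) : (Subgroup.center P).map P.subtype = (ZU u hu).map π := by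
  subst hP
  obtain ⟨n, f, h⟩ := exists_fr u0 hu
  have ne : ∀ s : F, 𝐡 (s • n) u = 0 := fun s => by rw [herm_smul_left, h.ne, mul_zero]
  ext x
  constructor
  · rintro ⟨⟨_, g, hg, rfl⟩, hc, rfl⟩
    obtain ⟨c, a, h1⟩ := h.isSiegel_of_fix (g := g) (by
      obtain ⟨w, a, hw, h1⟩ := hg
      exact h1.smul_of_orth hu (herm_comm_zero hw))
    obtain ⟨s, hs⟩ := exists_conj_ne F q
    obtain ⟨b, k, hk⟩ := exists_siegel' hu (ne (s * c))
    have hk' : k ∈ QU u hu := ⟨_, b, ne _, hk⟩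
    have h3 : π k * π g = π g * π k :=
      congrArg Subtype.val (Subgroup.mem_center_iff.1 hc ⟨_, k, hk', rfl⟩)
    have h4 : (k * g)⁻¹ * (g * k) = 1 := eq_one_of_center_QU h2 hu
      (mul_mem (inv_mem (mul_mem hk' hg)) (mul_mem hg hk')) (QuotientGroup.eq.1 h3)
    have h5 := congrArg (· • f) (inv_mul_eq_one.1 h4)
    simp only [mul_smul, h.unip_f hk, h.unip_f h1, smul_add, SU_smul_comm, h.unip_e hk, h.unip_e h1,
      h.unip_n hk, h.unip_n h1] at h5
    obtain ⟨h6, -, -⟩ := h.comb_inj (a := a + b - c * σ (s * c)) (b := c + s * c) (c := 1)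
      (a' := a + b - s * c * σ c) (b' := c + s * c) (c' := 1) (by
        linear_combination (norm := module) h5)
    rw [map_mul] at h6
    obtain rfl : c = 0 := by
      by_contra c0
      exact hs (mul_left_cancel₀ (mul_ne_zero c0 (conj_ne_zero.2 c0)) (by linear_combination -h6))
    exact ⟨g, ⟨a, by simpa using h1⟩, rfl⟩
  · rintro ⟨t, ⟨a, ht⟩, rfl⟩
    refine ⟨⟨_, t, ZU_le_QU hu ⟨a, ht⟩, rfl⟩, Subgroup.mem_center_iff.2 ?_, rfl⟩
    rintro ⟨_, g, ⟨w, b, hw, hg⟩, rfl⟩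
    refine Subtype.ext (show π g * π t = π t * π g from ?_)
    rw [← map_mul, ← map_mul, (hg.mul ht hu hw (herm_zero_left _)).unique (by
      simpa [herm_zero_left, herm_zero_right, add_comm] using ht.mul hg hu (herm_zero_left _) hw)]

theorem isBin_iff_PSU3 (hq : 2 < q) {H : Subgroup (PSU 3 F q)} (hH : H ≠ ⊤)
    (hev : Even (Nat.card H)) : IsBin (PSU 3 F q) (PSU 3 F q ⧸ H) ↔
      ∃ P : Sylow 2 (PSU 3 F q), H = (Subgroup.center P).map (P : Subgroup (PSU 3 F q)).subtype := by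
  have := hU.finite
  have st : ∀ g : PSU 3 F q, g • ((1 : PSU 3 F q) : PSU 3 F q ⧸ H) = (1 : PSU 3 F q) ↔ g ∈ H :=
    fun g => SetLike.ext_iff.1 (stabilizer_quotient H) g
  constructor
  · intro hb
    obtain ⟨s, hs⟩ := exists_prime_orderOf_dvd_card' (G := H) 2 hev.two_dvd
    obtain ⟨s2, s1⟩ := orderOf_eq_prime_iff.1 ((Subgroup.orderOf_coe s).trans hs)
    obtain ⟨u, hu, u0, t, ht, t1, e⟩ := exists_transv_of_inv hone h2 s1 ((sq _).symm.trans s2)
    obtain ⟨P, hP⟩ := (isPGroup_QU h2 hu).exists_le_sylow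
    obtain ⟨v, hv, v0, e'⟩ := exists_eq_QU hone h2 P
    have hle : (ZU u hu).map π ≤ H := by
      rintro _ ⟨t', ht', rfl⟩
      refine (st _).1 (hb.fix_of_commute (fun s t s1 s2 t1 t2 => hone s t (orderOf_eq_prime s2 s1)
        (orderOf_eq_prime t2 t1)) s2 s1 ?_ ?_ ((st _).2 s.2))
      · rw [sq, ← map_mul, transv_mul_self h2 hu ht', map_one]
      · have e1 := transv_mul_self h2 hu (mul_mem ht ht')
        rw [← e, ← map_mul, ← map_mul, ← inv_eq_of_mul_eq_one_left e1, _root_.mul_inv_rev,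
          inv_eq_of_mul_eq_one_left (transv_mul_self h2 hu ht),
          inv_eq_of_mul_eq_one_left (transv_mul_self h2 hu ht')]
    refine ⟨P, ?_⟩
    have h1 : π t ∈ (QU v hv).map π := e' ▸ hP ⟨t, ZU_le_QU hu ht, rfl⟩
    obtain ⟨g, ⟨w, a, hw, hg⟩, h1⟩ := h1
    obtain ⟨z, hz, rfl⟩ := (QuotientGroup.mk'_eq_mk' _).1 h1
    obtain ⟨-, c, -, hc⟩ := center_spec hz
    obtain ⟨b, ht⟩ := ht
    obtain ⟨l, hl⟩ := par_of_transv_fix ht (by rintro rfl; exact t1 (ht.unique (isSiegel_one u)))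
      hu v0 hv (m := c) (by rw [mul_smul, hc, SU_smul_comm, hg.smul_of_orth hv (herm_comm_zero hw)])
    rw [center_QU h2 hv v0 e', ← ZU_eq_of_par hv hu u0 hl]
    refine le_antisymm (fun g hg => ?_) hle
    obtain ⟨g, rfl⟩ := QuotientGroup.mk'_surjective _ g
    let _ : MulAction (SU 3 F q) (PSU 3 F q ⧸ H) := MulAction.compHom _ π
    obtain ⟨z, hz, a, h⟩ := transv_of_isBin (ω := ((1 : PSU 3 F q) : PSU 3 F q ⧸ H)) h2 hq
      (fun z hz x => (congrArg (· • x) ((QuotientGroup.eq_one_iff _).2 hz)).trans (one_smul _ x))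
      ((isBin_comp π (QuotientGroup.mk'_surjective _) fun _ _ => rfl).2 hb)
      (fun e => hH (eq_top_iff.2 fun g _ => by
        obtain ⟨g, rfl⟩ := QuotientGroup.mk'_surjective _ g
        exact (st _).1 (mem_stabilizer_iff.1 (e.ge (Subgroup.mem_top g)))))
      ⟨u0, hu, fun a t ht => (st _).2 (hle ⟨t, ⟨a, ht⟩, rfl⟩)⟩ (g := g) ((st _).2 hg)
    exact ⟨_, ⟨a, h⟩, by
      rw [map_mul, show π z = 1 from (QuotientGroup.eq_one_iff _).2 hz, one_mul]⟩
  · rintro ⟨P, hP⟩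
    obtain ⟨v, hv, v0, e'⟩ := exists_eq_QU hone h2 P
    rw [center_QU h2 hv v0 e'] at hP
    refine isBin_of_closed (ω := ((1 : PSU 3 F q) : PSU 3 F q ⧸ H)) (fun a ha => ?_)
      fun a b ha a1 b2 ab => ?_
    · obtain ⟨t, ht, rfl⟩ := hP ▸ (st a).1 ha
      rw [← map_mul, transv_mul_self h2 hv ht, map_one]
    by_cases b1 : b = 1
    · rw [b1, one_smul]
    obtain ⟨t, ht, rfl⟩ := hP ▸ (st a).1 ha
    obtain ⟨u, hu, u0, t', ⟨b, ht'⟩, t1, rfl⟩ := exists_transv_of_inv hone h2 b1 b2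
    obtain ⟨l, hl⟩ := fix_of_comm h2 hv ht (by rintro rfl; exact a1 (map_one _)) ab.symm
    obtain ⟨m, hm⟩ := par_of_transv_fix ht' (by rintro rfl; exact t1 (ht'.unique (isSiegel_one u)))
      hu v0 hv hl
    exact (st _).2 (hP ▸ ⟨t', ZU_le_of_par hv hu hm ⟨b, ht'⟩, rfl⟩)

end Cfsg.Agent.Class.U
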